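import Groth.Agent.ProjTopLib.Basic
import Mathlib.AlgebraicGeometry.Properties

/-!
# Irreducible closed subsets of `Proj`
-/

set_option autoImplicit false
universe u

open AlgebraicGeometry TopologicalSpace

noncomputable section

namespace ProjTopLib

variable {R A : Type u} [CommRing R] [CommRing A] [Algebra R A] (𝒜 : ℕ → Submodule R A) [GradedAlgebra 𝒜]

open ProjectiveSpectrum in
/-- irreducible closed sets correspond to primes of the ring without unit `S₊` -/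
theorem isIrreducible_iff (Z : Set (ProjectiveSpectrum 𝒜)) (hZ : IsClosed Z) :
    IsIrreducible Z ↔
      (¬ (HomogeneousIdeal.irrelevant 𝒜).toIdeal ≤ (vanishingIdeal Z).toIdeal ∧
        ∀ f ∈ (HomogeneousIdeal.irrelevant 𝒜).toIdeal, ∀ g ∈ (HomogeneousIdeal.irrelevant 𝒜).toIdeal,
          f * g ∈ (vanishingIdeal Z).toIdeal → f ∈ (vanishingIdeal Z).toIdeal ∨ g ∈ (vanishingIdeal Z).toIdeal) := by
  have hmem : ∀ f : A, f ∈ (vanishingIdeal Z).toIdeal ↔ ∀ x ∈ Z, f ∈ x.asHomogeneousIdeal :=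
    fun f => mem_vanishingIdeal Z f
  constructor
  · rintro ⟨⟨x, hx⟩, hpre⟩
    refine ⟨fun h => x.not_irrelevant_le fun a ha => (hmem a).mp (h ha) x hx, fun f _ g _ hfg => ?_⟩
    have hsub : Z ⊆ zeroLocus 𝒜 {f} ∪ zeroLocus 𝒜 {g} := fun y hy =>
      (y.isPrime.mem_or_mem ((hmem _).mp hfg y hy)).imp (Set.singleton_subset_iff.mpr ·)
        (Set.singleton_subset_iff.mpr ·)
    exact (isPreirreducible_iff_isClosed_union_isClosed.mp hpre _ _ (isClosed_zeroLocus 𝒜 _)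
      (isClosed_zeroLocus 𝒜 _) hsub).imp
        (fun h => (hmem f).mpr fun y hy => Set.singleton_subset_iff.mp (h hy))
        (fun h => (hmem g).mpr fun y hy => Set.singleton_subset_iff.mp (h hy))
  · rintro ⟨hne, hprime⟩
    refine ⟨?_, fun u v hu hv hzu hzv => ?_⟩
    · by_contra hempty
      exact hne fun a _ => (hmem a).mpr fun y hy => absurd ⟨y, hy⟩ hempty
    · obtain ⟨x, hx, hxu⟩ := hzu
      obtain ⟨y, hy, hyv⟩ := hzv
      obtain ⟨_, ⟨r, rfl⟩, hxr, hru⟩ := (isTopologicalBasis_basic_opens 𝒜).exists_subset_of_mem_open hxu hu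
      obtain ⟨_, ⟨s, rfl⟩, hys, hsv⟩ := (isTopologicalBasis_basic_opens 𝒜).exists_subset_of_mem_open hyv hv
      obtain ⟨d, t, hd, ht, htx⟩ := exists_pos_not_mem 𝒜 x
      obtain ⟨e, w, he, hw, hwy⟩ := exists_pos_not_mem 𝒜 y
      have h1 : r * t ∉ (vanishingIdeal Z).toIdeal := fun h =>
        (x.isPrime.mem_or_mem ((hmem _).mp h x hx)).elim hxr htx
      have h2 : s * w ∉ (vanishingIdeal Z).toIdeal := fun h =>
        (y.isPrime.mem_or_mem ((hmem _).mp h y hy)).elim hys hwy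
      have h3 : r * t * (s * w) ∉ (vanishingIdeal Z).toIdeal := fun h =>
        (hprime _ (Ideal.mul_mem_left _ _ (mem_irrelevant_of_mem 𝒜 hd ht)) _
          (Ideal.mul_mem_left _ _ (mem_irrelevant_of_mem 𝒜 he hw)) h).elim h1 h2
      rw [hmem] at h3
      push Not at h3
      obtain ⟨z, hz, hzn⟩ := h3
      refine ⟨z, hz, hru fun hzr => hzn ?_, hsv fun hzs => hzn ?_⟩
      · exact Ideal.mul_mem_right _ _ (Ideal.mul_mem_right _ _ hzr)
      · exact Ideal.mul_mem_left _ _ (Ideal.mul_mem_right _ _ hzs)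

theorem mem_vanishingIdeal_univ_iff {f : A} (hf : f ∈ (HomogeneousIdeal.irrelevant 𝒜).toIdeal) :
    f ∈ (ProjectiveSpectrum.vanishingIdeal (Set.univ : Set (ProjectiveSpectrum 𝒜))).toIdeal ↔ IsNilpotent f := by
  rw [isNilpotent_iff 𝒜 hf]
  exact (ProjectiveSpectrum.mem_vanishingIdeal _ f).trans ⟨fun h x => h x trivial, fun h x _ => h x⟩

/-- `Proj` of an essentially reduced ring is irreducible iff the ring is essentially integral -/
theorem irreducibleSpace_iff (hred : ∀ f ∈ (HomogeneousIdeal.irrelevant 𝒜).toIdeal, IsNilpotent f → f = 0) :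
    IrreducibleSpace (Proj 𝒜) ↔
      ((∃ f ∈ (HomogeneousIdeal.irrelevant 𝒜).toIdeal, f ≠ 0) ∧
        ∀ f ∈ (HomogeneousIdeal.irrelevant 𝒜).toIdeal, ∀ g ∈ (HomogeneousIdeal.irrelevant 𝒜).toIdeal,
          f * g = 0 → f = 0 ∨ g = 0) := by
  have key : ∀ f ∈ (HomogeneousIdeal.irrelevant 𝒜).toIdeal,
      (f ∈ (ProjectiveSpectrum.vanishingIdeal (Set.univ : Set (ProjectiveSpectrum 𝒜))).toIdeal ↔ f = 0) :=
    fun f hf => (mem_vanishingIdeal_univ_iff 𝒜 hf).trans
      ⟨hred f hf, fun h => h ▸ IsNilpotent.zero⟩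
  have h0 : IrreducibleSpace (Proj 𝒜) ↔ IsIrreducible (Set.univ : Set (ProjectiveSpectrum 𝒜)) := by
    constructor
    · intro h
      exact ⟨⟨(h.toNonempty).some, trivial⟩, h.toPreirreducibleSpace.1⟩
    · intro h
      exact @IrreducibleSpace.mk _ _ ⟨h.2⟩ ⟨h.1.choose⟩
  rw [h0, isIrreducible_iff 𝒜 _ isClosed_univ]
  refine and_congr ⟨fun h => ?_, fun ⟨f, hf, hne⟩ h => hne ((key f hf).mp (h hf))⟩
    (forall₂_congr fun f hf => forall₂_congr fun g hg => ?_)
  · obtain ⟨f, hf, hf'⟩ := SetLike.not_le_iff_exists.mp h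
    exact ⟨f, hf, fun he => hf' ((key f hf).mpr he)⟩
  · rw [key f hf, key g hg, key _ (Ideal.mul_mem_right g _ hf)]

end ProjTopLib

end
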