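import Groth.Agent.ProjTopLib.Basic
import Groth.Agent.ProjClosedLib.Map
import Mathlib.AlgebraicGeometry.Properties

/-!
# Maps between `Proj`s; reducedness
-/

set_option autoImplicit false
universe u

open CategoryTheory CategoryTheory.Limits AlgebraicGeometry TopologicalSpace HomogeneousLocalization

noncomputable section

namespace ProjTopLib

variable {R A : Type u} [CommRing R] [CommRing A] [Algebra R A] (𝒜 : ℕ → Submodule R A) [GradedAlgebra 𝒜]
  {B : Type u} [CommRing B] [Algebra R B] (ℬ : ℕ → Submodule R B) [GradedAlgebra ℬ]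
  (φ : 𝒜 →+*ᵍ ℬ) (hφ : HomogeneousIdeal.irrelevant ℬ ≤ (HomogeneousIdeal.irrelevant 𝒜).map φ)

theorem isAffineHom_map : IsAffineHom (Proj.map φ hφ) := by
  refine IsZariskiLocalAtTarget.of_iSup_eq_top (P := @IsAffineHom)
    (fun t : Σ d : {d : ℕ // 0 < d}, 𝒜 d.1 => Proj.basicOpen 𝒜 (t.2 : A)) (iSup_pos_basicOpen 𝒜) fun t => ?_
  have : IsAffine (Proj.basicOpen 𝒜 (t.2 : A)).toScheme := Proj.isAffineOpen_basicOpen 𝒜 _ t.2.2 t.1.2
  exact (HasAffineProperty.iff_of_isAffine (P := @IsAffineHom)).mpr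
    (Proj.isAffineOpen_basicOpen ℬ _ (φ.map_mem t.2.2) t.1.2)

theorem denseRange_map (hker : ∀ a : A, φ a = 0 → IsNilpotent a) :
    DenseRange (Proj.map φ hφ).base := by
  refine (ProjectiveSpectrum.isTopologicalBasis_basic_opens 𝒜).dense_iff.mpr ?_
  rintro _ ⟨r, rfl⟩ ⟨x, hx⟩
  obtain ⟨d, f, hd, hf, hfx⟩ := exists_pos_not_mem 𝒜 x
  have hrf : r * f ∈ (HomogeneousIdeal.irrelevant 𝒜).toIdeal :=
    Ideal.mul_mem_left _ _ (mem_irrelevant_of_mem 𝒜 hd hf)
  have hne : ¬ IsNilpotent (φ (r * f)) := by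
    rintro ⟨n, hn⟩
    rw [← map_pow] at hn
    obtain ⟨m, hm⟩ := hker _ hn
    rw [← pow_mul] at hm
    exact (x.isPrime.mem_or_mem (x.isPrime.mem_of_pow_mem (n * m) (hm ▸ zero_mem _))).elim hx hfx
  have hirr : φ (r * f) ∈ (HomogeneousIdeal.irrelevant ℬ).toIdeal := by
    rw [map_mul]
    exact Ideal.mul_mem_left _ _ (mem_irrelevant_of_mem ℬ hd (φ.map_mem hf))
  rw [isNilpotent_iff ℬ hirr] at hne
  push Not at hne
  obtain ⟨y, hy⟩ := hne
  refine ⟨Proj.map φ hφ y, fun h => hy ?_, y, rfl⟩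
  exact y.asHomogeneousIdeal.toIdeal.mul_mem_right _ h |> fun h' => by rwa [map_mul]

/-- bijective in positive degrees: an isomorphism -/
theorem isIso_map (hbij : ∀ n : ℕ, 0 < n → Set.BijOn φ (𝒜 n) (ℬ n)) :
    IsIso (Proj.map φ hφ) := by
  change MorphismProperty.isomorphisms Scheme (Proj.map φ hφ)
  refine IsZariskiLocalAtTarget.of_iSup_eq_top
    (fun t : Σ d : {d : ℕ // 0 < d}, 𝒜 d.1 => Proj.basicOpen 𝒜 (t.2 : A))
    (iSup_pos_basicOpen 𝒜) fun ⟨⟨d, hd⟩, t, ht⟩ => ?_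
  change IsIso (Proj.map φ hφ ∣_ Proj.basicOpen 𝒜 t)
  let U := Proj.basicOpen 𝒜 t
  have : IsAffine U.toScheme := Proj.isAffineOpen_basicOpen 𝒜 t ht hd
  have : IsAffine (Proj.map φ hφ ⁻¹ᵁ U).toScheme :=
    show IsAffine (Proj.basicOpen ℬ (φ t)).toScheme from
      Proj.isAffineOpen_basicOpen ℬ (φ t) (φ.map_mem ht) hd
  have e : (Proj.map φ hφ ∣_ U).appTop = U.topIso.hom ≫
      (Proj.map φ hφ).appLE U (Proj.map φ hφ ⁻¹ᵁ U) le_rfl ≫ (Proj.map φ hφ ⁻¹ᵁ U).topIso.inv := by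
    rw [← Scheme.Hom.resLE_eq_morphismRestrict, Scheme.Hom.appTop, Scheme.Hom.resLE_app_top]
  have hA : Function.Bijective (Away.map φ t) := by
    have key : ∀ (k : ℕ) (z : Away 𝒜 t), ∀ a (ha : a ∈ 𝒜 (k • d)), Away.mk 𝒜 ht k a ha = z →
        ∃ (k' : ℕ) (a' : A) (ha' : a' ∈ 𝒜 (k' • d)), 0 < k' • d ∧ Away.mk 𝒜 ht k' a' ha' = z := by
      intro k z a ha hz
      refine ⟨k + 1, a * t, by rw [add_smul, one_smul]; exact SetLike.mul_mem_graded ha ht,
        Nat.mul_pos (Nat.succ_pos k) hd, ?_⟩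
      rw [← hz]
      apply HomogeneousLocalization.val_injective
      rw [Away.val_mk, Away.val_mk, Localization.mk_eq_mk_iff, Localization.r_iff_exists]
      exact ⟨1, by simp [pow_succ]; ring⟩
    refine ⟨(injective_iff_map_eq_zero _).mpr fun z hz => ?_, fun z => ?_⟩
    · obtain ⟨k, a, ha, rfl⟩ := Away.mk_surjective 𝒜 ht z
      have h' := congrArg HomogeneousLocalization.val
        ((Away.map_mk φ t ht k a ha).symm.trans hz)
      rw [Away.val_mk, HomogeneousLocalization.val_zero, ← Localization.mk_zero (1 : Submonoid.powers (φ t)),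
        Localization.mk_eq_mk_iff, Localization.r_iff_exists] at h'
      obtain ⟨⟨_, N, rfl⟩, hc⟩ := h'
      have hc' : φ (t ^ (N + 1) * a) = 0 := by
        have h2 : φ t ^ N * φ a = 0 := by simpa using hc
        rw [map_mul, map_pow, pow_succ, mul_comm (φ t ^ N), mul_assoc, h2, mul_zero]
      have hmem : t ^ (N + 1) * a ∈ 𝒜 ((N + 1) • d + k • d) :=
        SetLike.mul_mem_graded (SetLike.pow_mem_graded (N + 1) ht) ha
      have h0 : t ^ (N + 1) * a = 0 :=
        (hbij _ (Nat.add_pos_left (Nat.mul_pos (Nat.succ_pos N) hd) _)).2.1 hmem (zero_mem _)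
          (hc'.trans (map_zero φ).symm)
      apply HomogeneousLocalization.val_injective
      rw [Away.val_mk, HomogeneousLocalization.val_zero, ← Localization.mk_zero (1 : Submonoid.powers t),
        Localization.mk_eq_mk_iff, Localization.r_iff_exists]
      exact ⟨⟨t ^ (N + 1), N + 1, rfl⟩, by simpa using h0⟩
    · obtain ⟨k, b, hb, rfl⟩ := Away.mk_surjective ℬ (φ.map_mem ht) z
      have hb' : b * φ t ∈ ℬ ((k + 1) • d) := by
        rw [add_smul, one_smul]; exact SetLike.mul_mem_graded hb (φ.map_mem ht)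
      obtain ⟨a, ha, hab⟩ := (hbij _ (Nat.mul_pos (Nat.succ_pos k) hd)).2.2 hb'
      refine ⟨Away.mk 𝒜 ht (k + 1) a ha, (Away.map_mk φ t ht _ a ha).trans ?_⟩
      apply HomogeneousLocalization.val_injective
      rw [Away.val_mk, Away.val_mk, Localization.mk_eq_mk_iff, Localization.r_iff_exists]
      refine ⟨1, ?_⟩
      simp only [OneMemClass.coe_one, one_mul, hab]
      rw [Nat.succ_eq_add_one, pow_succ]
      simp [mul_comm, mul_left_comm, mul_assoc]
  have hb : Function.Bijective ((Proj.map φ hφ).appLE U (Proj.map φ hφ ⁻¹ᵁ U) le_rfl) := by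
    have h1 : IsIso (Proj.awayToSection ℬ (φ t)) := by
      rw [← Proj.basicOpenIsoAway_hom ℬ (φ t) (φ.map_mem ht) hd]; infer_instance
    have h2 : IsIso (Proj.awayToSection 𝒜 t) := by
      rw [← Proj.basicOpenIsoAway_hom 𝒜 t ht hd]; infer_instance
    refine (Function.Bijective.of_comp_iff _ (ConcreteCategory.bijective_of_isIso (Proj.awayToSection 𝒜 t))).mp ?_
    refine Eq.mp (congrArg Function.Bijective (funext fun z => ?_))
      ((ConcreteCategory.bijective_of_isIso (Proj.awayToSection ℬ (φ t))).comp hA)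
    exact (congrArg (fun g => g z) (Proj.awayToSection_comp_appLE φ hφ ht)).symm
  have : IsIso (Proj.map φ hφ ∣_ U).appTop := by
    rw [ConcreteCategory.isIso_iff_bijective, e]
    simp only [CommRingCat.hom_comp, RingHom.coe_comp]
    exact ((ConcreteCategory.bijective_of_isIso (Proj.map φ hφ ⁻¹ᵁ U).topIso.inv).comp hb).comp
      (ConcreteCategory.bijective_of_isIso U.topIso.hom)
  have hb' := ConcreteCategory.bijective_of_isIso (Proj.map φ hφ ∣_ U).appTop
  have : IsClosedImmersion (Proj.map φ hφ ∣_ U) :=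
    (HasAffineProperty.iff_of_isAffine (P := @IsClosedImmersion)).mpr ⟨inferInstance, hb'.2⟩
  exact IsClosedImmersion.isIso_of_injective_of_isAffine hb'.1

/-- essentially reduced rings have reduced `Proj` -/
theorem isReduced_proj (hred : ∀ f ∈ (HomogeneousIdeal.irrelevant 𝒜).toIdeal, IsNilpotent f → f = 0) :
    AlgebraicGeometry.IsReduced (Proj 𝒜) := by
  have hA : ∀ (d : ℕ) (t : A), 0 < d → t ∈ 𝒜 d → _root_.IsReduced (Away 𝒜 t) := by
    intro d t hd ht
    refine ⟨fun z ⟨m, hm⟩ => ?_⟩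
    obtain ⟨k, a, ha, rfl⟩ := Away.mk_surjective 𝒜 ht z
    have h' := congrArg HomogeneousLocalization.val hm
    rw [HomogeneousLocalization.val_pow, Away.val_mk, Localization.mk_pow,
      HomogeneousLocalization.val_zero, ← Localization.mk_zero (1 : Submonoid.powers t),
      Localization.mk_eq_mk_iff, Localization.r_iff_exists] at h'
    obtain ⟨⟨_, N, rfl⟩, hc⟩ := h'
    have hc' : t ^ N * a ^ m = 0 := by simpa using hc
    have hnil : IsNilpotent (t * a) := ⟨N + m, by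
      rw [mul_pow, pow_add t, pow_add a,
        show t ^ N * t ^ m * (a ^ N * a ^ m) = t ^ N * a ^ m * (t ^ m * a ^ N) by ring, hc', zero_mul]⟩
    have h0 := hred _ (Ideal.mul_mem_right _ _ (mem_irrelevant_of_mem 𝒜 hd ht)) hnil
    apply HomogeneousLocalization.val_injective
    rw [Away.val_mk, HomogeneousLocalization.val_zero, ← Localization.mk_zero (1 : Submonoid.powers t),
      Localization.mk_eq_mk_iff, Localization.r_iff_exists]
    exact ⟨⟨t, 1, pow_one t⟩, by simpa using h0⟩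
  let 𝒰 : (Proj 𝒜).OpenCover :=
    Scheme.Cover.mkOfCovers (Σ d : {d : ℕ // 0 < d}, 𝒜 d.1)
      (fun t => Spec (CommRingCat.of (Away 𝒜 (t.2 : A))))
      (fun t => Proj.awayι 𝒜 (t.2 : A) t.2.2 t.1.2)
      (fun x => by
        obtain ⟨t, ht⟩ := Opens.mem_iSup.mp (show x ∈ ⨆ t : Σ d : {d : ℕ // 0 < d}, 𝒜 d.1,
          Proj.basicOpen 𝒜 (t.2 : A) by rw [iSup_pos_basicOpen]; trivial)
        rw [← Proj.opensRange_awayι 𝒜 (t.2 : A) t.2.2 t.1.2] at ht
        exact ⟨t, ht⟩)
      (fun t => by infer_instance)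
  have : ∀ t, AlgebraicGeometry.IsReduced (𝒰.X t) := fun t => by
    have := hA t.1.1 t.2 t.1.2 t.2.2
    change AlgebraicGeometry.IsReduced (Spec (CommRingCat.of (Away 𝒜 (t.2 : A))))
    infer_instance
  have hst : ∀ x : Proj 𝒜, _root_.IsReduced ((Proj 𝒜).presheaf.stalk x) := fun x => by
    obtain ⟨y, hy⟩ := 𝒰.covers x
    rw [← hy]
    exact isReduced_of_injective ((𝒰.f (𝒰.idx x)).stalkMap y).hom
      (ConcreteCategory.bijective_of_isIso ((𝒰.f (𝒰.idx x)).stalkMap y)).1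
  exact isReduced_of_isReduced_stalk _

end ProjTopLib

end
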