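import Groth.Agent.ProjTopLib.FG
import Mathlib.AlgebraicGeometry.ProjectiveSpectrum.Proper
import Mathlib.AlgebraicGeometry.Noetherian
import Mathlib.RingTheory.GradedAlgebra.Noetherian

/-!
# Noetherian graded rings
-/

set_option autoImplicit false
universe u

open AlgebraicGeometry

noncomputable section

namespace ProjTopLib

variable {R A : Type u} [CommRing R] [CommRing A] [Algebra R A] (𝒜 : ℕ → Submodule R A) [GradedAlgebra 𝒜]

theorem finiteType_of_isNoetherianRing [IsNoetherianRing A] : Algebra.FiniteType (𝒜 0) A :=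
  finiteType_of_fg 𝒜 (IsNoetherian.noetherian _)

theorem isNoetherianRing_iff :
    IsNoetherianRing A ↔ IsNoetherianRing (𝒜 0) ∧ Algebra.FiniteType (𝒜 0) A :=
  ⟨fun _ => ⟨inferInstance, finiteType_of_isNoetherianRing 𝒜⟩,
    fun ⟨_, _⟩ => Algebra.FiniteType.isNoetherianRing (𝒜 0) A⟩

theorem away_isNoetherianRing [IsNoetherianRing A] {d : ℕ} (f : A) (hf : f ∈ 𝒜 d) :
    IsNoetherianRing (HomogeneousLocalization.Away 𝒜 f) := by
  have := finiteType_of_isNoetherianRing 𝒜
  have := HomogeneousLocalization.Away.finiteType (𝒜 := 𝒜) f d hf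
  exact Algebra.FiniteType.isNoetherianRing (𝒜 0) _

theorem isNoetherian_proj [IsNoetherianRing A] : AlgebraicGeometry.IsNoetherian (Proj 𝒜) := by
  have := finiteType_of_isNoetherianRing 𝒜
  have : IsLocallyNoetherian (Proj 𝒜) := LocallyOfFiniteType.isLocallyNoetherian (Proj.toSpecZero 𝒜)
  have : CompactSpace (Proj 𝒜) := QuasiCompact.compactSpace_of_compactSpace (Proj.toSpecZero 𝒜)
  constructor

end ProjTopLib

end
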