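import Groth.Agent.ProjTopLib.Basic
import Mathlib.RingTheory.GradedAlgebra.FiniteType

/-!
# Finiteness for graded rings
-/

set_option autoImplicit false
universe u

open AlgebraicGeometry

noncomputable section

namespace ProjTopLib

variable {R A : Type u} [CommRing R] [CommRing A] [Algebra R A] (𝒜 : ℕ → Submodule R A) [GradedAlgebra 𝒜]

theorem span_eq_irrelevant_of_adjoin {E : Set A} (hE : ∀ e ∈ E, ∃ d : ℕ, 0 < d ∧ e ∈ 𝒜 d)
    (h : Algebra.adjoin (𝒜 0) E = ⊤) :
    (HomogeneousIdeal.irrelevant 𝒜).toIdeal = Ideal.span E := by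
  classical
  refine le_antisymm (fun x hx => ?_) (Ideal.span_le.mpr fun e he => ?_)
  · have key : ∀ y : A, y - (DirectSum.decompose 𝒜 y 0 : A) ∈ Ideal.span E := by
      intro y
      have hy : y ∈ Algebra.adjoin (𝒜 0) E := h ▸ trivial
      induction hy using Algebra.adjoin_induction with
      | mem e he =>
        obtain ⟨d, hd, hed⟩ := hE e he
        rw [DirectSum.decompose_of_mem_ne 𝒜 hed hd.ne', sub_zero]
        exact Ideal.subset_span he
      | algebraMap r =>
        rw [show (DirectSum.decompose 𝒜 (algebraMap (𝒜 0) A r) 0 : A) = algebraMap (𝒜 0) A r from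
          DirectSum.decompose_of_mem_same 𝒜 r.2, sub_self]
        exact zero_mem _
      | add a b _ _ ha hb =>
        rw [DirectSum.decompose_add, DirectSum.add_apply, Submodule.coe_add, add_sub_add_comm]
        exact add_mem ha hb
      | mul a b _ _ ha hb =>
        have e : (DirectSum.decompose 𝒜 (a * b) 0 : A) =
            (DirectSum.decompose 𝒜 a 0 : A) * (DirectSum.decompose 𝒜 b 0 : A) :=
          map_mul (GradedRing.projZeroRingHom 𝒜) a b
        rw [e, show a * b - (DirectSum.decompose 𝒜 a 0 : A) * (DirectSum.decompose 𝒜 b 0 : A) =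
          a * (b - (DirectSum.decompose 𝒜 b 0 : A)) +
            (DirectSum.decompose 𝒜 b 0 : A) * (a - (DirectSum.decompose 𝒜 a 0 : A)) by ring]
        exact add_mem (Ideal.mul_mem_left _ _ hb) (Ideal.mul_mem_left _ _ ha)
    have := key x
    rwa [decompose_zero_of_mem_irrelevant 𝒜 hx, sub_zero] at this
  · obtain ⟨d, hd, hed⟩ := hE e he
    exact mem_irrelevant_of_mem 𝒜 hd hed

theorem adjoin_eq_top_of_span {E : Set A} (hE : ∀ e ∈ E, ∃ d : ℕ, 0 < d ∧ e ∈ 𝒜 d)
    (h : (HomogeneousIdeal.irrelevant 𝒜).toIdeal ≤ Ideal.span E) :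
    Algebra.adjoin (𝒜 0) E = ⊤ := by
  classical
  have key : ∀ k : ℕ, ∀ a ∈ 𝒜 k, a ∈ Algebra.adjoin (𝒜 0) E := by
    intro k
    induction k using Nat.strong_induction_on with
    | _ k ih =>
      intro a ha
      rcases Nat.eq_zero_or_pos k with rfl | hk
      · exact Subalgebra.algebraMap_mem (Algebra.adjoin (𝒜 0) E) ⟨a, ha⟩
      · have hs := h (mem_irrelevant_of_mem 𝒜 hk ha)
        obtain ⟨c, rfl⟩ := Finsupp.mem_span_range_iff_exists_finsupp.mp
          (show a ∈ Submodule.span A (Set.range (Subtype.val : E → A)) by rwa [Subtype.range_coe])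
        rw [← DirectSum.decompose_of_mem_same 𝒜 ha, Finsupp.sum, DirectSum.decompose_sum,
          DFinsupp.finsetSum_apply, Submodule.coe_sum]
        refine sum_mem fun e _ => ?_
        obtain ⟨d, hd, hed⟩ := hE e.1 e.2
        rw [smul_eq_mul]
        by_cases hdk : d ≤ k
        · rw [DirectSum.coe_decompose_mul_of_right_mem_of_le 𝒜 hed hdk]
          exact mul_mem (ih (k - d) (by omega) _ (SetLike.coe_mem _)) (Algebra.subset_adjoin e.2)
        · rw [DirectSum.coe_decompose_mul_of_right_mem_of_not_le 𝒜 hed hdk]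
          exact zero_mem _
  refine eq_top_iff.mpr fun a _ => ?_
  rw [← DirectSum.sum_support_decompose 𝒜 a]
  exact sum_mem fun k _ => key k _ (SetLike.coe_mem _)

/-- homogeneous generators of positive degree -/
theorem exists_homogeneous_gens (h : (HomogeneousIdeal.irrelevant 𝒜).toIdeal.FG) :
    ∃ (s : Finset A), (∀ e ∈ s, ∃ d : ℕ, 0 < d ∧ e ∈ 𝒜 d) ∧
      (HomogeneousIdeal.irrelevant 𝒜).toIdeal = Ideal.span (s : Set A) := by
  classical
  obtain ⟨F, hF⟩ := h
  let s : Finset A := F.biUnion fun f =>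
    ((DirectSum.decompose 𝒜 f).support.filter (0 < ·)).image fun k => (DirectSum.decompose 𝒜 f k : A)
  refine ⟨s, fun e he => ?_, le_antisymm ?_ (Ideal.span_le.mpr fun e he => ?_)⟩
  · simp only [s, Finset.mem_biUnion, Finset.mem_image, Finset.mem_filter] at he
    obtain ⟨f, -, k, ⟨-, hk⟩, rfl⟩ := he
    exact ⟨k, hk, SetLike.coe_mem _⟩
  · rw [← hF]
    refine Submodule.span_le.mpr fun f hf => ?_
    have hfi : f ∈ (HomogeneousIdeal.irrelevant 𝒜).toIdeal := hF ▸ Submodule.subset_span hf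
    change f ∈ Ideal.span (s : Set A)
    rw [← DirectSum.sum_support_decompose 𝒜 f]
    refine Ideal.sum_mem _ fun k hk => ?_
    rcases Nat.eq_zero_or_pos k with rfl | hk0
    · rw [decompose_zero_of_mem_irrelevant 𝒜 hfi]; exact zero_mem _
    · refine Ideal.subset_span ?_
      simp only [s, Finset.coe_biUnion, Finset.coe_image, Set.mem_iUnion, Set.mem_image, Finset.coe_filter]
      exact ⟨f, hf, k, ⟨hk, hk0⟩, rfl⟩
  · simp only [s, Finset.coe_biUnion, Finset.coe_image, Set.mem_iUnion, Set.mem_image, Finset.coe_filter] at he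
    obtain ⟨f, -, k, ⟨-, hk⟩, rfl⟩ := he
    exact mem_irrelevant_of_mem 𝒜 hk (SetLike.coe_mem _)

theorem finiteType_of_fg (h : (HomogeneousIdeal.irrelevant 𝒜).toIdeal.FG) :
    Algebra.FiniteType (𝒜 0) A := by
  obtain ⟨s, hs, hspan⟩ := exists_homogeneous_gens 𝒜 h
  exact ⟨⟨s, adjoin_eq_top_of_span 𝒜 hs hspan.le⟩⟩

theorem fg_of_finiteType [Algebra.FiniteType (𝒜 0) A] :
    (HomogeneousIdeal.irrelevant 𝒜).toIdeal.FG := by
  obtain ⟨s, hs, hd⟩ := GradedAlgebra.exists_finset_adjoin_eq_top_and_homogeneous_ne_zero 𝒜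
  exact ⟨s, (span_eq_irrelevant_of_adjoin 𝒜 (fun e he => by
    obtain ⟨n, hn, hen⟩ := hd e he
    exact ⟨n, Nat.pos_of_ne_zero hn, hen⟩) hs).symm⟩

/-- high degrees lie in high powers of the irrelevant ideal -/
theorem exists_le_pow (h : (HomogeneousIdeal.irrelevant 𝒜).toIdeal.FG) (n : ℕ) :
    ∃ m₀ : ℕ, ∀ m, m₀ ≤ m → (𝒜 m : Set A) ⊆ ((HomogeneousIdeal.irrelevant 𝒜).toIdeal ^ n : Ideal A) := by
  classical
  obtain ⟨s, hs, hspan⟩ := exists_homogeneous_gens 𝒜 h
  choose d hd hmem using hs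
  obtain ⟨D, hD⟩ : ∃ D, ∀ e (he : e ∈ s), d e he ≤ D :=
    ⟨s.attach.sup fun e => d e.1 e.2,
      fun e he => Finset.le_sup (f := fun e : s => d e.1 e.2) (s.mem_attach ⟨e, he⟩)⟩
  refine ⟨n * D + 1, ?_⟩
  induction n with
  | zero => intro m _ a _; rw [pow_zero, Ideal.one_eq_top]; trivial
  | succ n ih =>
    intro m hm a ha
    have hm0 : 0 < m := Nat.lt_of_lt_of_le (Nat.succ_pos _) hm
    have hs' := hspan.le (mem_irrelevant_of_mem 𝒜 hm0 ha)
    obtain ⟨c, hc⟩ := Finsupp.mem_span_range_iff_exists_finsupp.mp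
      (show a ∈ Submodule.span A (Set.range (fun e : s => (e : A))) by
        rw [show Set.range (fun e : s => (e : A)) = (s : Set A) by ext; simp]; exact hs')
    rw [SetLike.mem_coe, ← DirectSum.decompose_of_mem_same 𝒜 ha, ← hc, Finsupp.sum, DirectSum.decompose_sum,
      DFinsupp.finsetSum_apply, Submodule.coe_sum]
    refine Ideal.sum_mem _ fun e _ => ?_
    rw [smul_eq_mul]
    by_cases hdk : d e.1 e.2 ≤ m
    · rw [DirectSum.coe_decompose_mul_of_right_mem_of_le 𝒜 (hmem e.1 e.2) hdk, pow_succ]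
      refine Ideal.mul_mem_mul (ih (m - d e.1 e.2) ?_ (SetLike.coe_mem _))
        (mem_irrelevant_of_mem 𝒜 (hd e.1 e.2) (hmem e.1 e.2))
      have := hD e.1 e.2
      rw [Nat.succ_mul] at hm
      omega
    · rw [DirectSum.coe_decompose_mul_of_right_mem_of_not_le 𝒜 (hmem e.1 e.2) hdk]
      exact zero_mem _

end ProjTopLib

end
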